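import Cfsg.Agent.Lib.Helper92.Suz.DataA
import Cfsg.Agent.Lib.Helper92.Suz.DataW
import Cfsg.Agent.Lib.Helper92.Suz.DataY

/-! # the sporadic Suzuki group on 1782 points: the class is closed, first generator (generated) -/

set_option autoImplicit false
set_option maxRecDepth 100000

namespace Cfsg.Agent.Lib.Helper92.Suz

open Cfsg
open Cfsg.Agent.Lib.Helper27
open Cfsg.Agent.Lib.Helper92
open Cfsg.Agent.Lib.Helper92.PCY

theorem closA6 : closG aC aiC (nth2 WT 64) (fun k => nth2 WT 64 (tb Winv k)) Yf (tb2 sKl) (tb2 sRl) jAf baseL 135135 96000 16000 = true := by decide +kernel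

theorem closA7 : closG aC aiC (nth2 WT 64) (fun k => nth2 WT 64 (tb Winv k)) Yf (tb2 sKl) (tb2 sRl) jAf baseL 135135 112000 16000 = true := by decide +kernel

end Cfsg.Agent.Lib.Helper92.Suz
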