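import Cfsg.Agent.Lib.Helper92.Suz.DataA
import Cfsg.Agent.Lib.Helper92.Suz.DataY

/-! # the sporadic Suzuki group on 1782 points: the relator tests (generated) -/

set_option autoImplicit false
set_option maxRecDepth 100000

namespace Cfsg.Agent.Lib.Helper92.Suz

open Cfsg
open Cfsg.Agent.Lib.Helper27
open Cfsg.Agent.Lib.Helper92
open Cfsg.Agent.Lib.Helper92.PCY

theorem main2 : mainC2 1782 (nth Apow) Yf rels (tb2 cjl) (tb2 cpl) 11 938 5 1000 260 = true := by decide +kernel

theorem rels_ok : relB 1782 aC zC rels = true := by decide +kernel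

end Cfsg.Agent.Lib.Helper92.Suz
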