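import Cfsg.Agent.Lib.Helper92.Suz.DataA

/-! # the sporadic Suzuki group on 1782 points: a 2-subgroup (generated) -/

set_option autoImplicit false
set_option maxRecDepth 100000

namespace Cfsg.Agent.Lib.Helper92.Suz

open Cfsg
open Cfsg.Agent.Lib.Helper27
open Cfsg.Agent.Lib.Helper92
open Cfsg.Agent.Lib.Helper92.PCY

theorem poly_ok : polyB 1782 (nth qcL) 12 (2 ^ 3) (nthL pw1) (nthL pw2) = true := by decide +kernel

end Cfsg.Agent.Lib.Helper92.Suz
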