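import Cfsg.Agent.Lib.Helper92.Suz.DataA

/-! # the sporadic Suzuki group on 1782 points: straight line programs (generated) -/

set_option autoImplicit false
set_option maxRecDepth 100000

namespace Cfsg.Agent.Lib.Helper92.Suz

open Cfsg
open Cfsg.Agent.Lib.Helper27
open Cfsg.Agent.Lib.Helper92
open Cfsg.Agent.Lib.Helper92.PCY

theorem run2 : headsOK outs2 (slp 1782 eC prog2 stack2) = true := by decide +kernel

end Cfsg.Agent.Lib.Helper92.Suz
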