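import Cfsg.Agent.Lib.Helper92.Suz.Base
import Cfsg.Agent.Lib.Helper92.Suz.Run0
import Cfsg.Agent.Lib.Helper92.Suz.Run1
import Cfsg.Agent.Lib.Helper92.Suz.Run2
import Cfsg.Agent.Lib.Helper92.Suz.Run3
import Cfsg.Agent.Lib.Helper92.Suz.WTree0
import Cfsg.Agent.Lib.Helper92.Suz.Reps0
import Cfsg.Agent.Lib.Helper92.Suz.Reps1
import Cfsg.Agent.Lib.Helper92.Suz.Reps2
import Cfsg.Agent.Lib.Helper92.Suz.Reps3
import Cfsg.Agent.Lib.Helper92.Suz.Reps4
import Cfsg.Agent.Lib.Helper92.Suz.Reps5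
import Cfsg.Agent.Lib.Helper92.Suz.Cls0
import Cfsg.Agent.Lib.Helper92.Suz.Cls1
import Cfsg.Agent.Lib.Helper92.Suz.Cls2
import Cfsg.Agent.Lib.Helper92.Suz.ClosA0
import Cfsg.Agent.Lib.Helper92.Suz.ClosA1
import Cfsg.Agent.Lib.Helper92.Suz.ClosA2
import Cfsg.Agent.Lib.Helper92.Suz.ClosA3
import Cfsg.Agent.Lib.Helper92.Suz.ClosA4
import Cfsg.Agent.Lib.Helper92.Suz.ClosZ0
import Cfsg.Agent.Lib.Helper92.Suz.ClosZ1
import Cfsg.Agent.Lib.Helper92.Suz.ClosZ2
import Cfsg.Agent.Lib.Helper92.Suz.ClosZ3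
import Cfsg.Agent.Lib.Helper92.Suz.ClosZ4
import Cfsg.Agent.Lib.Helper92.Suz.Main0
import Cfsg.Agent.Lib.Helper92.Suz.Main1
import Cfsg.Agent.Lib.Helper92.Suz.Chain0
import Cfsg.Agent.Lib.Helper92.Suz.Poly0
import Cfsg.Agent.Lib.Helper92.Suz.Outer0

/-! # the sporadic Suzuki group on 1782 points: the outer automorphism group of the permutation group (generated) -/

set_option autoImplicit false
set_option maxRecDepth 100000

namespace Cfsg.Agent.Lib.Helper92.Suz

open Cfsg
open Cfsg.Agent.Lib.Helper27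
open Cfsg.Agent.Lib.Helper92
open Cfsg.Agent.Lib.Helper92.PCY

theorem a_mem : a ∈ PG a z := AutSetup.a_mem
theorem z_mem : z ∈ PG a z := AutSetup.z_mem

theorem Apow_len : Apow.length = 11 := by decide +kernel

theorem st1 : ∀ d ∈ stack1, ∃ σ ∈ PG a z, HasP σ d := by
  intro d hd
  rcases List.mem_cons.1 hd with rfl | hd
  · exact ⟨z, z_mem, hz⟩
  · obtain ⟨m, hm, rfl⟩ := exists_nth_of_mem hd
    rw [Apow_len] at hm
    exact ⟨a ^ m, (PG a z).pow_mem a_mem m, hA m (by omega)⟩

theorem mem1 : ∀ d ∈ outs1, ∃ σ ∈ PG a z, HasP σ d := slp_out (PG a z) e_id st1 run1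

theorem st2 : ∀ d ∈ stack2, ∃ σ ∈ PG a z, HasP σ d := by
  intro d hd
  rcases List.mem_append.1 hd with hd | hd
  · exact mem1 d hd
  · exact st1 d hd

theorem mem2 : ∀ d ∈ outs2, ∃ σ ∈ PG a z, HasP σ d := slp_out (PG a z) e_id st2 run2
theorem mem3 : ∀ d ∈ outs3, ∃ σ ∈ PG a z, HasP σ d := slp_out (PG a z) e_id st2 run3

theorem b_mem : b ∈ PG a z := mem_of_code (mem2 _ (by simp [outs2])) hb

/-- `a` and `z` lie in every subgroup containing the given generators. -/
theorem az_of_gens (H : Subgroup (Equiv.Perm (Fin 1782))) (h0 : ∃ σ ∈ H, HasP σ p0C) (h1 : ∃ σ ∈ H, HasP σ p1C) (h2 : ∃ σ ∈ H, HasP σ p2C) (h3 : ∃ σ ∈ H, HasP σ p3C) (h4 : ∃ σ ∈ H, HasP σ p4C) (h5 : ∃ σ ∈ H, HasP σ p5C) (h6 : ∃ σ ∈ H, HasP σ p6C) : PG a z ≤ H := by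
  have key := slp_out H e_id (st := [p6C, p5C, p4C, p3C, p2C, p1C, p0C]) (by
    intro d hd
    simp only [List.mem_cons, List.not_mem_nil, or_false] at hd
    rcases hd with rfl | rfl | rfl | rfl | rfl | rfl | rfl
    · exact h6
    · exact h5
    · exact h4
    · exact h3
    · exact h2
    · exact h1
    · exact h0) az_slp
  unfold PG
  rw [Subgroup.closure_le]
  rintro x (rfl | hx)
  · exact mem_of_code (key aC (by simp)) ha
  · rw [Set.mem_singleton_iff.1 hx]
    exact mem_of_code (key zC (by simp)) hz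

theorem order_a : orderOf a = 11 :=
  orderOf_of_code (i := 0) (by norm_num) ha e_id (by decide +kernel) (by norm_num) (by decide +kernel)

theorem z_sq : z * z = 1 := (hz.mul hz).eq_one (by decide +kernel)

theorem G_mem : ∀ d ∈ Ggc, ∃ σ ∈ PG a z, HasP σ d := by
  intro d hd
  rcases List.mem_append.1 hd with hd | hd
  · exact mem1 d hd
  · simp only [List.mem_cons, List.not_mem_nil, or_false] at hd
    rcases hd with rfl | rfl
    · exact ⟨z, z_mem, hz⟩
    · exact ⟨a, a_mem, ha⟩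

theorem Ggc_len : Ggc.length = 12 := by decide +kernel
theorem Ghc_len : Ghc.length = 13 := by decide +kernel
theorem base_len : baseL.length = 5 := by decide

theorem G_fun : ∃ g : ℕ → Equiv.Perm (Fin 1782), (∀ j < 12, g j ∈ PG a z) ∧ ∀ j < 12, HasP (g j) (nth Ggc j) :=
  exists_fun (H := PG a z) (gc := nth Ggc) (r := 12)
    (fun j hj => G_mem _ (nth_mem (by rw [Ggc_len]; exact hj)))

theorem chain_le : 448345497600 * Nat.card (St (PG a z) (nth baseL) 5) ≤ Nat.card (PG a z) := by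
  obtain ⟨g, hgP, hg⟩ := G_fun
  have := chain_of_chainB hg hgP chain_ok
  rwa [prod_ok] at this

theorem card_ge : 448345497600 ≤ Nat.card (PG a z) := (chain_facts (by norm_num) chain_le).1

/-- the outer element is not in the group. -/
theorem s_notin (hcard : Nat.card (PG a z) = 448345497600) : s ∉ PG a z := by
  intro hsP
  have G2 : ∀ d ∈ Ghc, ∃ σ ∈ PG a z, HasP σ d := by
    intro d hd
    rcases List.mem_append.1 hd with hd | hd
    · rcases List.mem_append.1 hd with hd | hd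
      · exact mem1 d (List.mem_append_left _ hd)
      · rcases List.mem_cons.1 hd with rfl | hd
        · obtain ⟨σ, hσ, h⟩ := mem2 ypC (by simp [outs2])
          exact ⟨s * σ, (PG a z).mul_mem hsP hσ, hs.of_prodB h y_ok⟩
        · exact mem1 d (List.mem_append_right _ hd)
    · simp only [List.mem_cons, List.not_mem_nil, or_false] at hd
      rcases hd with rfl | rfl
      · exact ⟨z, z_mem, hz⟩
      · exact ⟨a, a_mem, ha⟩
  obtain ⟨g, hgP, hg⟩ := exists_fun (H := PG a z) (gc := nth Ghc) (r := 13)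
    (fun j hj => G2 _ (nth_mem (by rw [Ghc_len]; exact hj)))
  have h1 := chain_of_chainB hg hgP chain2_ok
  rw [prod2_ok, hcard] at h1
  have h2 : 0 < Nat.card (St (PG a z) (nth baseL) 5) := Nat.card_pos
  nlinarith

theorem Q_mem : ∀ j < 12, ∃ σ ∈ PG a z, HasP σ (nth qcL j) := by
  have key : ∀ d ∈ qcL, ∃ σ ∈ PG a z, HasP σ d := by
    intro d hd
    simp only [qcL, List.mem_cons, List.not_mem_nil, or_false] at hd
    rcases hd with rfl | rfl | rfl | rfl | rfl | rfl | rfl | rfl | rfl | rfl | rfl | rfl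
    · exact mem2 _ (by simp [outs2])
    · exact mem2 _ (by simp [outs2])
    · exact mem2 _ (by simp [outs2])
    · exact mem2 _ (by simp [outs2])
    · exact mem2 _ (by simp [outs2])
    · exact mem2 _ (by simp [outs2])
    · exact ⟨z, z_mem, hz⟩
    · exact mem3 _ (by simp [outs3])
    · exact mem3 _ (by simp [outs3])
    · exact mem3 _ (by simp [outs3])
    · exact mem3 _ (by simp [outs3])
    · exact mem3 _ (by simp [outs3])
  exact fun j hj => key _ (nth_mem (by exact hj))

/-! ### the normaliser of `⟨a⟩` -/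

theorem N_le : genS (two a b) 2 ≤ PG a z :=
  genS_le (forall_two (p := fun j => two a b j ∈ PG a z) a_mem b_mem)

theorem b_norm : b ∈ normZ a :=
  mem_normZ (e := 2) (e' := 6) (mul_eq_of_eqB hb ha (hA 2 (by norm_num)) hb (by decide +kernel))
    (mul_eq_of_eqB ha hb hb (hA 6 (by norm_num)) (by decide +kernel))

theorem a_norm : a ∈ normZ a := mem_normZ (e := 1) (e' := 1) (by rw [pow_one]) (by rw [pow_one])

theorem N_norm : genS (two a b) 2 ≤ normZ a :=
  genS_le (forall_two (p := fun j => two a b j ∈ normZ a) a_norm b_norm)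

theorem wtree_all : ∀ k < 110, invB 1782 (nth2 WT 64 k) (nth2 WT 64 (tb Winv k)) = true ∧
    ((k = 0 ∧ PCY.isId 1782 (nth2 WT 64 k) = true) ∨ (tb Wpar k < k ∧ tb Wgs k < 2 ∧
      prodB 1782 (nth2 WT 64 k) (nth [aC, bC] (tb Wgs k)) (nth2 WT 64 (tb Wpar k)) = true)) := by
  intro k hk
  rcases Nat.lt_or_ge k 55 with h0 | h0
  · exact wtreeB_spec wtree0 (by omega) (by omega)
  exact wtreeB_spec wtree1 (by omega) (by omega)

theorem hW : ∀ k < 110, ∃ σ ∈ genS (two a b) 2, HasP σ (nth2 WT 64 k) ∧ HasP σ⁻¹ (nth2 WT 64 (tb Winv k)) :=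
  W_of_wtree (g := two a b) (gc := nth [aC, bC]) (Wi := fun k => nth2 WT 64 (tb Winv k))
    (par := tb Wpar) (gsel := tb Wgs) (forall_two ha hb) wtree_all

/-! ### the class of `z` -/

theorem reps_all : ∀ r < 1260, (r = 0 ∧ Yf 0 = zC) ∨ (tb Ypar r < r ∧ tb Ykk r < 110 ∧ ∀ t < 1782,
    en (Yf r) t = en zC (en (nth2 WT 64 (tb Ykk r)) (en (Yf (tb Ypar r))
      (en (nth2 WT 64 (tb Winv (tb Ykk r))) (en zC t))))) := by
  intro k hk
  rcases Nat.lt_or_ge k 120 with h0 | h0
  · exact repsP_spec reps0 (by omega) (by omega)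
  rcases Nat.lt_or_ge k 240 with h1 | h1
  · exact repsP_spec reps1 (by omega) (by omega)
  rcases Nat.lt_or_ge k 360 with h2 | h2
  · exact repsP_spec reps2 (by omega) (by omega)
  rcases Nat.lt_or_ge k 480 with h3 | h3
  · exact repsP_spec reps3 (by omega) (by omega)
  rcases Nat.lt_or_ge k 600 with h4 | h4
  · exact repsP_spec reps4 (by omega) (by omega)
  rcases Nat.lt_or_ge k 720 with h5 | h5
  · exact repsP_spec reps5 (by omega) (by omega)
  rcases Nat.lt_or_ge k 840 with h6 | h6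
  · exact repsP_spec reps6 (by omega) (by omega)
  rcases Nat.lt_or_ge k 960 with h7 | h7
  · exact repsP_spec reps7 (by omega) (by omega)
  rcases Nat.lt_or_ge k 1080 with h8 | h8
  · exact repsP_spec reps8 (by omega) (by omega)
  rcases Nat.lt_or_ge k 1200 with h9 | h9
  · exact repsP_spec reps9 (by omega) (by omega)
  exact repsP_spec reps10 (by omega) (by omega)

theorem hY : ∀ r < 1260, ∃ x ∈ PG a z, HasP (x * z * x⁻¹) (Yf r) :=
  reps_of_repsP (W := nth2 WT 64) (Wi := fun k => nth2 WT 64 (tb Winv k)) (par := tb Ypar) (kk := tb Ykk)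
    hz z_sq z_mem (fun k hk => by
      obtain ⟨σ, hσ, h⟩ := hW k hk
      exact ⟨σ, N_le hσ, h⟩) reps_all

theorem cls_all : ∀ i < 135135, tb2 sKl i < 110 ∧ tb2 sRl i < 1260 ∧ (i + 1 = 135135 ∨
    fpI (nth2 WT 64) (fun k => nth2 WT 64 (tb Winv k)) Yf (tb2 sKl) (tb2 sRl) baseL i < fpI (nth2 WT 64) (fun k => nth2 WT 64 (tb Winv k)) Yf (tb2 sKl) (tb2 sRl) baseL (i + 1)) := by
  intro k hk
  rcases Nat.lt_or_ge k 24000 with h0 | h0
  · exact clsB_spec cls0 (by omega) (by omega)
  rcases Nat.lt_or_ge k 48000 with h1 | h1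
  · exact clsB_spec cls1 (by omega) (by omega)
  rcases Nat.lt_or_ge k 72000 with h2 | h2
  · exact clsB_spec cls2 (by omega) (by omega)
  rcases Nat.lt_or_ge k 96000 with h3 | h3
  · exact clsB_spec cls3 (by omega) (by omega)
  rcases Nat.lt_or_ge k 120000 with h4 | h4
  · exact clsB_spec cls4 (by omega) (by omega)
  exact clsB_spec cls5 (by omega) (by omega)

theorem closA_all : ∀ i < 135135, jAf i < 135135 ∧ ∀ p ∈ baseL,
    en aC (en (nth2 WT 64 (tb2 sKl i)) (en (Yf (tb2 sRl i)) (en (nth2 WT 64 (tb Winv (tb2 sKl i))) (en aiC p))))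
      = en (nth2 WT 64 (tb2 sKl (jAf i))) (en (Yf (tb2 sRl (jAf i)))
        (en (nth2 WT 64 (tb Winv (tb2 sKl (jAf i)))) p)) := by
  intro k hk
  rcases Nat.lt_or_ge k 16000 with h0 | h0
  · exact closG_spec closA0 (by omega) (by omega)
  rcases Nat.lt_or_ge k 32000 with h1 | h1
  · exact closG_spec closA1 (by omega) (by omega)
  rcases Nat.lt_or_ge k 48000 with h2 | h2
  · exact closG_spec closA2 (by omega) (by omega)
  rcases Nat.lt_or_ge k 64000 with h3 | h3
  · exact closG_spec closA3 (by omega) (by omega)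
  rcases Nat.lt_or_ge k 80000 with h4 | h4
  · exact closG_spec closA4 (by omega) (by omega)
  rcases Nat.lt_or_ge k 96000 with h5 | h5
  · exact closG_spec closA5 (by omega) (by omega)
  rcases Nat.lt_or_ge k 112000 with h6 | h6
  · exact closG_spec closA6 (by omega) (by omega)
  rcases Nat.lt_or_ge k 128000 with h7 | h7
  · exact closG_spec closA7 (by omega) (by omega)
  exact closG_spec closA8 (by omega) (by omega)

theorem closZ_all : ∀ i < 135135, jZf i < 135135 ∧ ∀ p ∈ baseL,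
    en zC (en (nth2 WT 64 (tb2 sKl i)) (en (Yf (tb2 sRl i)) (en (nth2 WT 64 (tb Winv (tb2 sKl i))) (en zC p))))
      = en (nth2 WT 64 (tb2 sKl (jZf i))) (en (Yf (tb2 sRl (jZf i)))
        (en (nth2 WT 64 (tb Winv (tb2 sKl (jZf i)))) p)) := by
  intro k hk
  rcases Nat.lt_or_ge k 16000 with h0 | h0
  · exact closG_spec closZ0 (by omega) (by omega)
  rcases Nat.lt_or_ge k 32000 with h1 | h1
  · exact closG_spec closZ1 (by omega) (by omega)
  rcases Nat.lt_or_ge k 48000 with h2 | h2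
  · exact closG_spec closZ2 (by omega) (by omega)
  rcases Nat.lt_or_ge k 64000 with h3 | h3
  · exact closG_spec closZ3 (by omega) (by omega)
  rcases Nat.lt_or_ge k 80000 with h4 | h4
  · exact closG_spec closZ4 (by omega) (by omega)
  rcases Nat.lt_or_ge k 96000 with h5 | h5
  · exact closG_spec closZ5 (by omega) (by omega)
  rcases Nat.lt_or_ge k 112000 with h6 | h6
  · exact closG_spec closZ6 (by omega) (by omega)
  rcases Nat.lt_or_ge k 128000 with h7 | h7
  · exact closG_spec closZ7 (by omega) (by omega)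
  exact closG_spec closZ8 (by omega) (by omega)

theorem Y0 : Yf 0 = zC := by decide +kernel

theorem main_all : ∀ r < 1260, ∀ m, 0 < m → m < 11 → ∀ τ : Equiv.Perm (Fin 1782), HasP τ (Yf r) →
    (∀ (w : List Bool) (mm : ℕ), ev a z w ^ mm = 1 → ev (a ^ m) τ w ^ mm = 1) →
      (r = 0 ∧ m = 1) ∨ (r = 938 ∧ m = 5) := by
  intro k hk m hm0 hmp τ hτ hw
  rcases Nat.lt_or_ge k 500 with h0 | h0
  · exact mainC2_spec ha hz rels_ok main0 (by omega) (by omega) hm0 hmp hτ (hA m (by omega)) hw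
  rcases Nat.lt_or_ge k 1000 with h1 | h1
  · exact mainC2_spec ha hz rels_ok main1 (by omega) (by omega) hm0 hmp hτ (hA m (by omega)) hw
  exact mainC2_spec ha hz rels_ok main2 (by omega) (by omega) hm0 hmp hτ (hA m (by omega)) hw

/-! ### the outer element -/

theorem s_a : s * a * s⁻¹ = a ^ 5 := by
  rw [mul_eq_of_eqB hs ha (hA 5 (by norm_num)) hs (by decide +kernel)]
  group

theorem s_z : HasP (s * z * s⁻¹) (Yf 938) := by
  rw [← sz_code]
  exact (hs.mul hz).mul hsi

theorem s_z_mem : s * z * s⁻¹ ∈ PG a z := by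
  obtain ⟨x, hx, h⟩ := hY 938 (by norm_num)
  rw [s_z.ext h]
  exact (PG a z).mul_mem ((PG a z).mul_mem hx z_mem) ((PG a z).inv_mem hx)

theorem s_conj : ∀ x ∈ PG a z, s * x * s⁻¹ ∈ PG a z :=
  conj_mem_of_gens (by rw [s_a]; exact (PG a z).pow_mem a_mem _) s_z_mem

theorem s_sq : s * s ∈ PG a z := by
  obtain ⟨σ, hσ, h, -⟩ := hW 92 (by norm_num)
  have h2 : HasP (s * s) (nth2 WT 64 92) := by
    rw [← ss_code]
    exact hs.mul hs
  rw [h2.ext h]
  exact N_le hσ

theorem cent_triv : ∀ u : Equiv.Perm (Fin 1782), u * a = a * u → u * z = z * u → u = 1 := by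
  obtain ⟨g, hgP, hg⟩ := G_fun
  exact cent_of_fixB (ρ := 10) (fun j hj => hg j (by omega)) (fun j hj => hgP j (by omega))
    (by norm_num) fixB_ok (trans_of_orbB hg hgP (by norm_num) orb0_ok)

/-! ### the setup -/

theorem setup (hcard : Nat.card (PG a z) = 448345497600) : ∃ Q, AutSetup4 a z s⁻¹ 11 135135 Q := by
  obtain ⟨gQ, hgP, hg⟩ := exists_fun Q_mem
  have hz0 : gQ 6 = z := (hg 6 (by norm_num)).ext hz
  have htriv := (chain_facts (by norm_num) chain_le).2 hcard
  have hfin : Finite (PG a z) := inferInstance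
  obtain ⟨hcls, hcov⟩ := class_of_checks (H := genS (two a b) 2) (W := nth2 WT 64)
    (Wi := fun k => nth2 WT 64 (tb Winv k)) (Y := Yf) (sK := tb2 sKl) (sR := tb2 sRl)
    (jA := jAf) (jZ := jZf) (pts := baseL) (iz := 46242)
    ha hai hz z_sq N_le hW hY (by decide) cls_all
    (fun x hx hfix => htriv x ⟨hx, fun k hk h => hfix _ (nth_mem (by rw [base_len]; exact hk)) h⟩)
    closA_all closZ_all (by norm_num) (by decide +kernel) (by decide +kernel)
  exact ⟨genS gQ 12,
    { fin := hfin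
      pp := by norm_num
      oa := order_a
      hp2 := by rw [hcard]; norm_num
      hQP := genS_le hgP
      hQ2 := isPGroup_of_polyB hg poly_ok
      hQc := fun t ht hq => cent_of_fixQ2 hz z_mem hg (zcomm_of_zcommB hz hg zcomm_ok) (iz := 6)
        (by norm_num) hz0 (by norm_num) (by norm_num) (le_blkS_self _) fix_ok base_ok htriv t ht (comm_genS hq)
      z1 := ne_one_of_code (i := 0) hz (by norm_num) (by decide +kernel)
      hM := by norm_num
      hcls := hcls
      tn := fun x hx => by rw [inv_inv]; exact conj_inv_mem s_conj x hx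
      tn' := fun x hx => by rw [inv_inv]; exact s_conj x hx
      t2 := by rw [← mul_inv_rev]; exact (PG a z).inv_mem s_sq
      cent := fun u hu hua huz => by
        rw [cent_triv u hua huz, one_mul] at hu
        exact s_notin hcard (by simpa using (PG a z).inv_mem hu)
      H2 := H2_of_checks2 (by norm_num) order_a hz Y0 N_le N_norm hcov main_all s_a s_z }⟩

theorem card_out (hcard : Nat.card (PG a z) = 448345497600) : Nat.card (Cfsg.Out (PG a z)) = 2 := by
  obtain ⟨Q, h⟩ := setup hcard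
  exact h.card_out

end Cfsg.Agent.Lib.Helper92.Suz
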