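import Cfsg.Agent.Lib.Helper28.Suz1782Simple
import Cfsg.Agent.Lib.Helper92.Suz.Perm
import Cfsg.Prelude.Def_Spor_Suz

/-!
# The presented sporadic Suzuki group and its permutation representation on 1782 points
-/

set_option autoImplicit false
set_option maxRecDepth 100000

namespace Cfsg.Agent.Lib.Helper92.Suz

open Cfsg
open Cfsg.Agent.Lib.Helper27
open Cfsg.Agent.Lib.Helper92
open Cfsg.Agent.Lib.Helper92.PCY

/-- numbering of the generators. -/
def encG : Spor.Suz.Gen → ℕ
  | .a => 0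
  | .b => 1
  | .c => 2
  | .d => 3
  | .e => 4
  | .f => 5
  | .g => 6

def decG : ℕ → Spor.Suz.Gen
  | 0 => .a
  | 1 => .b
  | 2 => .c
  | 3 => .d
  | 4 => .e
  | 5 => .f
  | _ => .g

theorem dec_enc (x : Spor.Suz.Gen) : decG (encG x) = x := by cases x <;> rfl

theorem enc_lt (x : Spor.Suz.Gen) : encG x < 7 := by cases x <;> decide

theorem gens_ok : allBelow (fun j => invOK 1782 (nth gcL j) (nth gcL j)) 7 = true := by decide +kernel

/-- the generators as permutations. -/
def gpN (j : ℕ) : Equiv.Perm (Fin 1782) := pm 1782 (nth gcL j) (nth gcL j)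

theorem hgp : ∀ j < 7, HasP (gpN j) (nth gcL j) :=
  fun j hj => hasP_pm ((allBelow_iff _ _).1 gens_ok j hj)

def gp (x : Spor.Suz.Gen) : Equiv.Perm (Fin 1782) := gpN (encG x)

theorem cox_ok : coxB 1782 (nth gcL) (fun x y => Spor.coxLabel Spor.Suz.edges (decG x) (decG y)) 7 = true := by
  decide +kernel

theorem cox_rel (x y : Spor.Suz.Gen) : (gp x * gp y) ^ Spor.coxLabel Spor.Suz.edges x y = 1 := by
  have := cox_of_coxB hgp cox_ok (encG x) (enc_lt x) (encG y) (enc_lt y)
  rwa [dec_enc, dec_enc] at this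

theorem gpN_sq : ∀ j < 7, gpN j * gpN j = 1 := by
  intro j hj
  have h := cox_of_coxB hgp cox_ok j hj j hj
  have e : Spor.coxLabel Spor.Suz.edges (decG j) (decG j) = 1 := by
    unfold Spor.coxLabel
    rw [if_pos rfl]
  rw [e, pow_one] at h
  exact h

theorem gpN_inv : ∀ j < 7, (gpN j)⁻¹ = gpN j := fun j hj => inv_eq_of_mul_eq_one_left (gpN_sq j hj)

theorem x1_ok : wordB 1782 (nth gcL) 7 [0, 3, 2, 3, 2, 3, 2, 3, 2] = true := by
  decide +kernel
theorem x2_ok : wordB 1782 (nth gcL) 7 [0, 6, 5, 6, 5] = true := by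
  decide +kernel
theorem x3_ok : wordB 1782 (nth gcL) 7 [0, 1, 2, 5, 0, 1, 2, 5, 0, 1, 2, 5, 0, 1, 2, 5, 0, 1, 2, 5] = true := by
  decide +kernel
theorem x4_ok : wordB 1782 (nth gcL) 7 [1, 5, 6, 1, 5, 6, 1, 5, 6, 1, 5, 6, 1, 5, 6] = true := by
  decide +kernel
theorem x5_ok : wordB 1782 (nth gcL) 7 [1, 2, 3, 2, 3, 1, 2, 3, 2, 3, 1, 2, 3, 2, 3, 1, 2, 3, 2, 3, 1, 2, 3, 2, 3, 4, 1, 2, 3, 2, 3, 1, 2, 3, 2, 3, 1, 2, 3, 2, 3, 1, 2, 3, 2, 3, 1, 2, 3, 2, 3, 4, 1, 2, 3, 2, 3, 1, 2, 3, 2, 3, 1, 2, 3, 2, 3, 1, 2, 3, 2, 3, 1, 2, 3, 2, 3, 4] = true := by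
  decide +kernel

theorem rels_hold : ∀ r ∈ Spor.coxRelators Spor.Suz.edges ∪ {r | r ∈ Spor.Suz.extra},
    FreeGroup.lift gp r = 1 := by
  rintro r (⟨x, -, y, -, rfl⟩ | hr)
  · rw [map_pow, map_mul, FreeGroup.lift_apply_of, FreeGroup.lift_apply_of]
    exact cox_rel x y
  · have i2 := gpN_inv 2 (by norm_num)
    have i3 := gpN_inv 3 (by norm_num)
    have i5 := gpN_inv 5 (by norm_num)
    have i6 := gpN_inv 6 (by norm_num)
    have hr' : r ∈ Spor.Suz.extra := hr
    simp only [Spor.Suz.extra, List.mem_cons, List.not_mem_nil, or_false] at hr'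
    rcases hr' with rfl | rfl | rfl | rfl | rfl
    · have h := prodL_eq_one hgp x1_ok
      simp only [prodL_cons] at h
      simp only [map_mul, map_inv, map_pow, FreeGroup.lift_apply_of]
      show gpN 0 * ((gpN 2 * gpN 3) ^ 4)⁻¹ = 1
      rw [← h]
      simp only [pow_succ, pow_zero, one_mul, mul_inv_rev, i2, i3, mul_assoc]
      rfl
    · have h := prodL_eq_one hgp x2_ok
      simp only [prodL_cons] at h
      simp only [map_mul, map_inv, map_pow, FreeGroup.lift_apply_of]
      show gpN 0 * ((gpN 5 * gpN 6) ^ 2)⁻¹ = 1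
      rw [← h]
      simp only [pow_succ, pow_zero, one_mul, mul_inv_rev, i5, i6, mul_assoc]
      rfl
    · have h := prodL_eq_one hgp x3_ok
      simp only [prodL_cons] at h
      simp only [map_mul, map_pow, FreeGroup.lift_apply_of]
      show (gpN 0 * gpN 1 * gpN 2 * gpN 5) ^ 5 = 1
      rw [← h]
      simp only [pow_succ, pow_zero, one_mul, mul_assoc]
      rfl
    · have h := prodL_eq_one hgp x4_ok
      simp only [prodL_cons] at h
      simp only [map_mul, map_pow, FreeGroup.lift_apply_of]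
      show (gpN 1 * gpN 5 * gpN 6) ^ 5 = 1
      rw [← h]
      simp only [pow_succ, pow_zero, one_mul, mul_assoc]
      rfl
    · have h := prodL_eq_one hgp x5_ok
      simp only [prodL_cons] at h
      simp only [map_mul, map_pow, FreeGroup.lift_apply_of]
      show ((gpN 1 * gpN 2 * gpN 3 * gpN 2 * gpN 3) ^ 5 * gpN 4) ^ 3 = 1
      rw [← h]
      simp only [pow_succ, pow_zero, one_mul, mul_assoc]
      rfl

/-- the permutation representation. -/
def psi : Spor.Suz →* Equiv.Perm (Fin 1782) := PresentedGroup.toGroup rels_hold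

theorem range_code {i : ℕ} (hi : i < 7) : ∃ σ ∈ psi.range, HasP σ (nth gcL i) := by
  refine ⟨gpN i, ⟨PresentedGroup.of (decG i), ?_⟩, hgp i hi⟩
  have : psi (PresentedGroup.of (decG i)) = gp (decG i) := PresentedGroup.toGroup.of rels_hold
  rw [this]
  interval_cases i <;> rfl

theorem PG_le : PG a z ≤ psi.range :=
  az_of_gens _ (range_code (i := 0) (by norm_num)) (range_code (i := 1) (by norm_num))
    (range_code (i := 2) (by norm_num)) (range_code (i := 3) (by norm_num))
    (range_code (i := 4) (by norm_num)) (range_code (i := 5) (by norm_num))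
    (range_code (i := 6) (by norm_num))

theorem card_Suz : Nat.card Spor.Suz = 448345497600 := Cfsg.Agent.Lib.Helper28.Suz1782.main.2.1

theorem iso_Suz : Nonempty (Spor.Suz ≃* PG a z) ∧ Nat.card (PG a z) = 448345497600 := by
  have : Finite Spor.Suz := Nat.finite_of_card_ne_zero (by rw [card_Suz]; norm_num)
  have := iso_of_le psi (PG a z) PG_le (by rw [card_Suz]; exact card_ge)
  rwa [card_Suz] at this

theorem card_out_Suz : Nat.card (Cfsg.Out Spor.Suz) = 2 := by
  obtain ⟨⟨e1⟩, hc⟩ := iso_Suz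
  rw [card_out_congr e1]
  exact card_out hc

end Cfsg.Agent.Lib.Helper92.Suz
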